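import Cfsg.Agent.H366.OC.PlusT
import Cfsg.Agent.H151.OwnO.PlusRow
import Cfsg.Agent.H845.OC.Rows
import Cfsg.Agent.H553.AF.PlusD

/-!
# S4829, own characteristic, `p` odd: the row `PΩ⁺_{2m}(q)`, `m ≥ 4`, from the adjoint data (helper366)
-/

set_option autoImplicit false
set_option linter.unusedSectionVars false
set_option linter.unusedFintypeInType false

namespace Cfsg.Agent.H366.OC

open Cfsg QuadraticMap Cfsg.Agent.Nodes
open Cfsg.Agent.ChevalleyStructure.CoxeterGeom Cfsg.Agent.Tits.Roots Cfsg.Agent.Tits.Core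
open Cfsg.Agent.Nodes.Comb Cfsg.Agent.Nodes.Reps Cfsg.Agent.Nodes.BNOf Cfsg.Agent.Nodes.RGDLib Cfsg.Agent.Nodes.Bruhat
open Cfsg.Agent.Nodes.WittRoot (Mono Amb XG)
open Cfsg.Agent.Nodes.WittRGD (Tor mem_Tor b_ne_zero Amb.eq_one_of_fix)
open Cfsg.Agent.Nodes.WittAll Cfsg.Agent.Nodes.WittInst
open Cfsg.Agent.Nodes.TypeD
open Cfsg.Agent.TitsThree Cfsg.Agent.TitsThree.Siegel Cfsg.Agent.TitsThree.SiegelGen
  Cfsg.Agent.TitsThree.WittFrame Cfsg.Agent.TitsThree.WBridge Cfsg.Agent.TitsThree.WittWeyl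
  Cfsg.Agent.TitsThree.KSideO
open Cfsg.Agent.LieClassical Cfsg.Agent.LieClassical.OrthCore Cfsg.Agent.LieClassical.OrthForms
open Cfsg.Agent.H151.OwnO
open Cfsg.Agent.H712.OC (eta)

section T

variable {ι : Type} [Fintype ι] [DecidableEq ι] {F : Type} [Field F] {Q : QuadraticForm F (ι → F)} {n : ℕ}
  (W : WFrame (KSideO.PO Q) (n + 2)) {Y : Type*} [Group Y] (π : ↥(E Q) →* Y)

/-- **the element of the torus of an image of `E Q`** -/
theorem exists_t [Finite F] (hF : Odd (Nat.card F)) (hn : 2 ≤ n) (hA : Amb (toFrame W) (E Q))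
    (u v : Fin (n + 2) → Fin (n + 2) × Bool)
    (huv : ∀ i, ((i, true) = u i ∧ nx i = v i) ∨ ((i, true) = v i ∧ nx i = u i)) :
    ∃ t ∈ (TE W).map π, ∃ c : Fin (n + 2) → Fˣ,
      (∀ i a, t * π ⟨(toFrame W).X (u i) (v i) a, X_mem W _ _ _⟩ * t⁻¹ =
        π ⟨(toFrame W).X (u i) (v i) ((c i : F) * a), X_mem W _ _ _⟩) ∧ ∏ i, eta F (c i) = -1 := by
  obtain ⟨t, ht⟩ := prod_eta W hF hn hA
  refine ⟨π t, ⟨t, t.2, rfl⟩, fun i => aE W i t, fun i a => ?_, ht⟩
  rw [← map_inv, ← map_mul, ← map_mul]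
  exact congrArg π (Subtype.ext (conj_sr W t.2 i (huv i) a))

end T

section Row

open Cfsg.Agent.LieClassical.OrthTrans Cfsg.Agent.LieClassical.OrthSimple Cfsg.Agent.LieClassical.OrthFinite
open Cfsg.Agent.H770.CY (RowA RowForA)
open Cfsg.Agent.H928.Ad

variable {F : Type} [Field F] [Fintype F] {p : ℕ} [hp : Fact p.Prime] [CharP F p]

theorem goodP {n : ℕ} (hn : 2 ≤ n) : Good (plusForm (n + 2) F) := by
  apply good_of_finite (nondeg_plusForm (n + 2) F)
  rw [Module.finrank_fintype_fun_eq_card, Fintype.card_sum, Fintype.card_fin]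
  omega

theorem M_ne_four (n : ℕ) (i j : Fin (n + 2)) : M n i j ≠ 4 := by
  rw [M_apply]
  split_ifs <;> omega

theorem M_ne_six (n : ℕ) (i j : Fin (n + 2)) : M n i j ≠ 6 := by
  rw [M_apply]
  split_ifs <;> omega

/-- **the row from the adjoint data on the frame of type `D`** -/
theorem rowA_of_data (hp2 : p ≠ 2) {n : ℕ} (hn : 2 ≤ n) (hG : Good (plusForm (n + 2) F))
    [Fintype (POmega F ⇑(plusForm (n + 2) F))] [IsSimpleGroup (POmega F ⇑(plusForm (n + 2) F))]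
    (hna : ¬ IsMulCommutative (POmega F ⇑(plusForm (n + 2) F)))
    {nk : Fin (n + 2) → POmega F ⇑(plusForm (n + 2) F)} {X : (Fin (n + 2) → ℤ) → Subgroup (POmega F ⇑(plusForm (n + 2) F))}
    {x : ∀ _ : Fin (n + 2) → ℤ, F → POmega F ⇑(plusForm (n + 2) F)}
    {D : Subgroup (MulAut (POmega F ⇑(plusForm (n + 2) F)))}
    (H : Data (K := fun _ => F) (M n).toCoxeterSystem (isCartan n) p ((TE (wplus (n + 2) F)).map (toPOmega hG)) nk X x D)
    {φ : ↥(Gad D) → ↥(Gad D)} (hφ : H92.GG.Anti (M n).toCoxeterSystem (isCartan n) (Tad D) (Xad X D) φ)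
    (u v : Fin (n + 2) → Fin (n + 2) × Bool)
    (huv : ∀ i, ((i, true) = u i ∧ nx i = v i) ∨ ((i, true) = v i ∧ nx i = u i))
    (hx : ∀ i a, x (sr i) a = toPOmega hG ⟨(toFrame (wplus (n + 2) F)).X (u i) (v i) a, X_mem (wplus (n + 2) F) _ _ _⟩) :
    RowA p (POmega F ⇑(plusForm (n + 2) F)) := by
  have : Finite (M n).Group := finite_W (M n).toCoxeterSystem
  have hF := H845.OC.odd_card (F := F) hp2
  have hL : IsLieTypeChar p (POmega F ⇑(plusForm (n + 2) F)) := Or.inr (Or.inr (Or.inr (Or.inr (Or.inl ⟨F, inferInstance,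
    inferInstance, inferInstance, n + 2, by omega, ⟨by rw [coe_plusForm]⟩⟩))))
  obtain ⟨t, ht, c, hc, hs⟩ := exists_t (wplus (n + 2) F) (toPOmega hG) hF hn (amb_plus (F := F) (n + 2)) u v huv
  have R := H.rgd
  have hC := Omega.EH3.Kf.Lev.comm_of_sl R fun _ _ hx hy =>
    Nodes.SimplyLaced.cpr_symm (M n).toCoxeterSystem (isCartan n) (M_ne_four n) (M_ne_six n) hx hy
  refine H396.PC.rowA_data hna hp2 H hC hφ
    (fun b hb hQ => S4613.result p hL b hb hQ.choose hQ.choose_spec) ht c (fun i a => ?_) hs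
  rw [hx, hx]
  exact hc i a

/-- **the field `oplus` from the row of the concrete groups** -/
theorem oplus_of (hrow : ∀ (F : Type) [Field F] [Fintype F] [CharP F p] (n : ℕ), 2 ≤ n →
      ∀ [Fintype (POmega F ⇑(plusForm (n + 2) F))] [IsSimpleGroup (POmega F ⇑(plusForm (n + 2) F))],
      ¬ IsMulCommutative (POmega F ⇑(plusForm (n + 2) F)) → RowA p (POmega F ⇑(plusForm (n + 2) F))) :
    RowForA p (fun X _ => ∃ (F : Type) (_ : Field F) (_ : Fintype F) (_ : CharP F p) (m : ℕ), 4 ≤ m ∧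
      Nonempty (X ≃* POmega F (quadFormPlus m F))) := by
  rintro X _ _ _ hna - ⟨F, i1, i2, i3, m, hm, ⟨e⟩⟩
  obtain ⟨n, rfl⟩ : ∃ n, m = n + 2 := ⟨m - 2, by omega⟩
  rw [← coe_plusForm] at e
  have : Finite (POmega F ⇑(plusForm (n + 2) F)) := Finite.of_equiv X e.toEquiv
  have : Fintype (POmega F ⇑(plusForm (n + 2) F)) := Fintype.ofFinite _
  have : IsSimpleGroup (POmega F ⇑(plusForm (n + 2) F)) := e.symm.isSimpleGroup
  exact H776.CY.RowA.congr e (hrow F n (by omega) (H845.OC.na_of_equiv e hna))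

/-- **the row of `PΩ⁺_{2m}(q)`, `m ≥ 4`, `q` odd** -/
theorem rowA_oplus (hp2 : p ≠ 2) {n : ℕ} (hn : 2 ≤ n) [Fintype (POmega F ⇑(plusForm (n + 2) F))]
    [IsSimpleGroup (POmega F ⇑(plusForm (n + 2) F))] (hna : ¬ IsMulCommutative (POmega F ⇑(plusForm (n + 2) F))) :
    RowA p (POmega F ⇑(plusForm (n + 2) F)) := by
  obtain ⟨φ, -, hφ⟩ := H553.AF.PlusD.anti (p := p) (goodP (F := F) hn) (M n).toCoxeterSystem
  exact rowA_of_data hp2 hn (goodP hn) hna (H553.AF.PlusD.data (p := p) (goodP (F := F) hn) (M n).toCoxeterSystem) hφ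
    (fun i => (H553.AF.PlusD.pr (sr i)).1) (fun i => (H553.AF.PlusD.pr (sr i)).2)
    (fun i => H553.AF.PlusD.pr_eq (isRoot_sr (M n).toCoxeterSystem (isCartan n) i) (ok_nx i) (ee_sr i)) fun _ _ => rfl

end Row

/-- **the field `oplus`** -/
theorem row_oplus {p : ℕ} [Fact p.Prime] (hp2 : p ≠ 2) :
    Cfsg.Agent.H770.CY.RowForA p (fun X _ => ∃ (F : Type) (_ : Field F) (_ : Fintype F) (_ : CharP F p) (m : ℕ), 4 ≤ m ∧
      Nonempty (X ≃* POmega F (quadFormPlus m F))) :=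
  oplus_of fun _ _ _ _ _ hn _ _ hna => rowA_oplus hp2 hn hna

end Cfsg.Agent.H366.OC
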