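import Cfsg.Agent.H151.OwnO.Plus
import Cfsg.Agent.H712.OC.Lam

/-!
# S4829, own characteristic, `PΩ⁺_{2m}(q)`, `q` odd, `m ≥ 4`: the element of the torus (helper366)

* `exists_tE` : `t ∈ TE W` with scalars `ν` on the simple root group `1` and `1` on the others;
* `prod_eta` : `∏ i, eta (aE W i t) = -1` if `ν` is not a square.
-/

set_option autoImplicit false
set_option linter.unusedSectionVars false
set_option linter.unusedFintypeInType false

namespace Cfsg.Agent.H366.OC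

open Cfsg QuadraticMap Cfsg.Agent.Nodes
open Cfsg.Agent.ChevalleyStructure.CoxeterGeom Cfsg.Agent.Tits.Roots Cfsg.Agent.Tits.Core
open Cfsg.Agent.Nodes.Comb Cfsg.Agent.Nodes.Reps Cfsg.Agent.Nodes.BNOf Cfsg.Agent.Nodes.RGDLib Cfsg.Agent.Nodes.Bruhat
open Cfsg.Agent.Nodes.WittRoot (Mono Amb XG)
open Cfsg.Agent.Nodes.WittRGD (Tor mem_Tor b_ne_zero Amb.eq_one_of_fix)
open Cfsg.Agent.Nodes.WittAll Cfsg.Agent.Nodes.WittInst
open Cfsg.Agent.Nodes.TypeD
open Cfsg.Agent.TitsThree Cfsg.Agent.TitsThree.Siegel Cfsg.Agent.TitsThree.SiegelGen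
  Cfsg.Agent.TitsThree.WittFrame Cfsg.Agent.TitsThree.WBridge Cfsg.Agent.TitsThree.WittWeyl
  Cfsg.Agent.TitsThree.KSideO
open Cfsg.Agent.LieClassical Cfsg.Agent.LieClassical.OrthCore Cfsg.Agent.LieClassical.OrthForms
open Cfsg.Agent.H151.OwnO Cfsg.Agent.H712.OC

variable {ι : Type} [Fintype ι] [DecidableEq ι] {F : Type*} [Field F] {Q : QuadraticForm F (ι → F)} {n : ℕ}
  (W : WFrame (PO Q) (n + 2))

/-- **the element of the torus** -/
theorem exists_tE (hn : 2 ≤ n) (hA : Amb (toFrame W) (E Q)) (ν : Fˣ) :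
    ∃ t : ↥(TE W), ∀ i : Fin (n + 2), aE W i t = if (i : ℕ) = 1 then ν else 1 := by
  have h01 : ((0 : Fin (n + 2)), true).1 ≠ ((1 : Fin (n + 2)), true).1 := by simp
  have hν := ν.ne_zero
  let t : ↥(TE W) := ⟨hX W hA (0, true) (1, true) ν, hX_mem W hA h01 hν⟩
  have ev : ∀ k : Fin (n + 2), evU W (k, true) t = if (k : ℕ) ≤ 1 then ν else 1 := by
    intro k
    apply Units.ext
    rw [coe_evU]
    by_cases hk : (k : ℕ) ≤ 1
    · rw [if_pos hk]
      apply ev_of
      rcases (by omega : (k : ℕ) = 0 ∨ (k : ℕ) = 1) with h | h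
      · have : k = 0 := Fin.ext (by rw [h]; rfl)
        subst this
        exact hX_x W hA h01 hν
      · have : k = 1 := Fin.ext (by rw [h]; rfl)
        subst this
        exact hX_y W hA h01 hν
    · rw [if_neg hk]
      apply ev_of
      rw [Units.val_one, one_smul]
      refine hX_of_ne W hA h01 ?_ ?_ _
      · intro h
        apply hk
        have : (k : ℕ) = 0 := congrArg Fin.val h
        omega
      · intro h
        apply hk
        have : (k : ℕ) = 1 := congrArg Fin.val h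
        omega
  refine ⟨t, fun i => ?_⟩
  by_cases hi : (i : ℕ) + 1 < n + 2
  · rw [aE_up W i hi, ev, ev]
    have h2 : (((⟨(i : ℕ) + 1, hi⟩ : Fin (n + 2)) : ℕ)) = i + 1 := rfl
    rw [h2]
    rcases (by omega : (i : ℕ) = 0 ∨ (i : ℕ) = 1 ∨ 2 ≤ (i : ℕ)) with h | h | h
    · rw [h]; simp
    · rw [h]; simp
    · rw [if_neg (by omega), if_neg (by omega), if_neg (by omega)]; simp
  · rw [aE_last W i hi, ev, ev]
    have h2 : ((pd n : Fin (n + 2)) : ℕ) = n := rfl
    rw [h2, if_neg (by omega), if_neg (by omega), if_neg (by omega), mul_one]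

omit [Fintype ι] [DecidableEq ι] in
/-- the torus on the root element of any pair of frame vectors -/
theorem conj_pair {t : ↥(E Q)} (ht : t ∈ TE W) {x y : Fin (n + 2) × Bool} (h : x.1 ≠ y.1) (s : F) :
    t.1 * (toFrame W).X x y s * t.1⁻¹ = (toFrame W).X x y (ev W x t.1 * ev W y t.1 * s) := by
  have h1 : (HO Q).IsIso t.1 := fun v w => polar_map (E_le_O t.2) v w
  have h2 := conj_X (toFrame W) h1 h h (apply_b W ht x) (apply_b W ht y) s
  rw [h2, H151.OwnO.eta]
  congr 1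
  show _ * (RingEquiv.refl F) _ * (1 : F)⁻¹ * 1 * s = _
  rw [RingEquiv.refl_apply, inv_one, mul_one, mul_one]

omit [Fintype ι] [DecidableEq ι] in
/-- the torus on the simple root group `i`, in the coordinates of the pair `(i, true), nx i` or of the swapped pair -/
theorem conj_sr {t : ↥(E Q)} (ht : t ∈ TE W) (i : Fin (n + 2)) {x y : Fin (n + 2) × Bool}
    (h : ((i, true) = x ∧ nx i = y) ∨ ((i, true) = y ∧ nx i = x)) (s : F) :
    t.1 * (toFrame W).X x y s * t.1⁻¹ = (toFrame W).X x y ((aE W i ⟨t, ht⟩ : F) * s) := by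
  have e1 : (aE W i ⟨t, ht⟩ : F) = ev W (i, true) t.1 * ev W (nx i) t.1 := rfl
  rcases h with ⟨rfl, rfl⟩ | ⟨rfl, rfl⟩
  · rw [conj_pair W ht (ok_nx i), e1]
  · rw [conj_pair W ht (Ne.symm (ok_nx i)), e1, mul_comm (ev W (nx i) t.1)]

/-- the product of the signs -/
theorem prod_eta [Finite F] (hF : Odd (Nat.card F)) (hn : 2 ≤ n) (hA : Amb (toFrame W) (E Q)) :
    ∃ t : ↥(TE W), ∏ i, eta F (aE W i t) = -1 := by
  obtain ⟨ν, hν⟩ := IsCyclic.exists_generator (α := Fˣ)
  obtain ⟨t, ht⟩ := exists_tE W hn hA ν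
  refine ⟨t, ?_⟩
  rw [Finset.prod_eq_single (1 : Fin (n + 2))]
  · rw [ht, if_pos (by rfl)]
    exact eta_gen hF hν
  · intro i _ hi
    rw [ht, if_neg, map_one]
    intro h
    exact hi (Fin.ext (by rw [h]; rfl))
  · intro h
    exact absurd (Finset.mem_univ _) h

end Cfsg.Agent.H366.OC
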